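import Cfsg.Agent.H996.PQ.RowF4
import Cfsg.Agent.H317.PQ.Exc
import Cfsg.Agent.H755.PQ.TorThree
import Cfsg.Agent.H755.PQ.TorRows

/-!
# S4612, the row `F₄(q)`: arithmetic (helper604)

`S` = the set of the constituents (order of `FullF4d`: `1`, `q P4 P8 P12 / 2`, `q P2² P6² P8 / 2`, `q² P3² P6² P12`,
`q³ P4² P8 P12`) in the principal `p`-block, `e` the order of `q` modulo `p`:
`e = 2`: `{0,1,3,4}`, (`p = 5`) `{0,3}`: excluded by the coset test, (`p = 7`) `{0,4}`, (`p = 3`) `{0,1,4}`;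
`e = 3`: `{0,1}`, `{0,1,2,4}`; `e = 4`: `{0,2,3}`; `e = 6`: `{0,1,4}`; `e = 8`: `{0,3}`, `{0,3,4}`; `e = 12`: `{0,2}`.
-/

set_option autoImplicit false

namespace Cfsg.Agent.H604.PQ

open Cfsg Cfsg.Lie Cfsg.Agent.H317.PQ Cfsg.Agent.H996.PQ Cfsg.Agent.H996.Eight.Cert
open Cfsg.Agent.H64.Dl.Sph (ev ev_cons ev_nil)
open Cfsg.Agent.H996.PQ.FullF4d (pol evN evD1 evD2 evD3 evD4 evdn1 evdn2 evdn3 evdn4 deg)

universe u

section vals

variable {q p : ℕ} [Fact p.Prime] {S : Finset (Fin 5)}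

/-- the tests modulo `p` -/
structure V (q p : ℕ) (S : Finset (Fin 5)) (d1 d2 d3 d4 : ZMod p) : Prop where
  v1 : 2 * d1 = (q : ZMod p) * ((q : ZMod p) ^ 2 + 1) * ((q : ZMod p) ^ 4 + 1) * ((q : ZMod p) ^ 4 - (q : ZMod p) ^ 2 + 1)
  v2 : 2 * d2 = (q : ZMod p) * ((q : ZMod p) + 1) ^ 2 * ((q : ZMod p) ^ 2 - (q : ZMod p) + 1) ^ 2 * ((q : ZMod p) ^ 4 + 1)
  v3 : d3 = (q : ZMod p) ^ 2 * ((q : ZMod p) ^ 2 + (q : ZMod p) + 1) ^ 2 * ((q : ZMod p) ^ 2 - (q : ZMod p) + 1) ^ 2 *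
    ((q : ZMod p) ^ 4 - (q : ZMod p) ^ 2 + 1)
  v4 : d4 = (q : ZMod p) ^ 3 * ((q : ZMod p) ^ 2 + 1) ^ 2 * ((q : ZMod p) ^ 4 + 1) *
    ((q : ZMod p) ^ 4 - (q : ZMod p) ^ 2 + 1)
  c1 : 1 ∈ S → ((q : ZMod p) - 1) * ((q : ZMod p) ^ 7 * ((q : ZMod p) + 1) ^ 2 * ((q : ZMod p) ^ 2 + (q : ZMod p) + 1) *
    ((q : ZMod p) ^ 2 - (q : ZMod p) + 1) ^ 2) = 0
  c2 : 2 ∈ S → ((q : ZMod p) - 1) * ((q : ZMod p) ^ 7 * ((q : ZMod p) ^ 2 + (q : ZMod p) + 1) * ((q : ZMod p) ^ 2 + 1) *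
    ((q : ZMod p) ^ 4 - (q : ZMod p) ^ 2 + 1)) = 0
  c3 : 3 ∈ S → ((q : ZMod p) - 1) * ((q : ZMod p) ^ 8 * ((q : ZMod p) + 1) * ((q : ZMod p) ^ 2 + 1) *
    ((q : ZMod p) ^ 4 + 1)) = 0
  c4 : 4 ∈ S → ((q : ZMod p) - 1) * ((q : ZMod p) ^ 6 * ((q : ZMod p) + 1) * ((q : ZMod p) ^ 2 + (q : ZMod p) + 1) *
    ((q : ZMod p) ^ 2 - (q : ZMod p) + 1) * ((q : ZMod p) ^ 4 + 1)) = 0
  s : ((q : ZMod p) + 1) * ((q : ZMod p) ^ 2 + (q : ZMod p) + 1) * ((q : ZMod p) ^ 2 + 1) *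
    ((q : ZMod p) ^ 2 - (q : ZMod p) + 1) * ((q : ZMod p) ^ 4 + 1) * ((q : ZMod p) ^ 4 - (q : ZMod p) ^ 2 + 1) = 0 →
    1 + (if 1 ∈ S then d1 else 0) + (if 2 ∈ S then d2 else 0) + (if 3 ∈ S then d3 else 0) + (if 4 ∈ S then d4 else 0) = 0

theorem sum_eq (h0 : (0 : Fin 5) ∈ S) (f : Fin 5 → ℤ) : ∑ i ∈ S, f i =
    f 0 + (if 1 ∈ S then f 1 else 0) + (if 2 ∈ S then f 2 else 0) + (if 3 ∈ S then f 3 else 0) +
      (if 4 ∈ S then f 4 else 0) := by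
  rw [← Finset.univ_inter S, ← Finset.sum_ite_mem, Fin.sum_univ_five]
  simp only [Finset.univ_inter, h0, if_true]

theorem deg0 (hq : 2 ≤ q) : (pol.deg q 0 : ℤ) = 1 := by
  have h := deg hq 0
  have h1 : (pol.den 0 : ℤ) = 1 := by decide
  have h2 : evZ (q : ℤ) (pol.dn 0) = 1 := by
    show evZ (q : ℤ) [1] = 1
    simp only [evZ]
    ring
  rw [h1, h2, one_mul] at h
  exact h

theorem deg1 (hq : 2 ≤ q) : 2 * (pol.deg q 1 : ℤ) = q * ((q : ℤ) ^ 2 + 1) * ((q : ℤ) ^ 4 + 1) *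
    ((q : ℤ) ^ 4 - (q : ℤ) ^ 2 + 1) := by
  rw [← evdn1, ← deg hq 1]
  rfl

theorem deg2 (hq : 2 ≤ q) : 2 * (pol.deg q 2 : ℤ) = q * ((q : ℤ) + 1) ^ 2 * ((q : ℤ) ^ 2 - (q : ℤ) + 1) ^ 2 *
    ((q : ℤ) ^ 4 + 1) := by
  rw [← evdn2, ← deg hq 2]
  rfl

theorem deg3 (hq : 2 ≤ q) : (pol.deg q 3 : ℤ) = (q : ℤ) ^ 2 * ((q : ℤ) ^ 2 + (q : ℤ) + 1) ^ 2 *
    ((q : ℤ) ^ 2 - (q : ℤ) + 1) ^ 2 * ((q : ℤ) ^ 4 - (q : ℤ) ^ 2 + 1) := by
  rw [← evdn3, ← deg hq 3]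
  exact (one_mul _).symm

theorem deg4 (hq : 2 ≤ q) : (pol.deg q 4 : ℤ) = (q : ℤ) ^ 3 * ((q : ℤ) ^ 2 + 1) ^ 2 * ((q : ℤ) ^ 4 + 1) *
    ((q : ℤ) ^ 4 - (q : ℤ) ^ 2 + 1) := by
  rw [← evdn4, ← deg hq 4]
  exact (one_mul _).symm

theorem exists_V (hq : 2 ≤ q) (h0 : (0 : Fin 5) ∈ S) (hT : Tst pol q p S) :
    V q p S ((pol.deg q 1 : ℤ) : ZMod p) ((pol.deg q 2 : ℤ) : ZMod p) ((pol.deg q 3 : ℤ) : ZMod p)
      ((pol.deg q 4 : ℤ) : ZMod p) := by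
  have hc : ∀ i ∈ S, ((((q : ℤ) - 1) * evZ (q : ℤ) (pol.D i) : ℤ) : ZMod p) = 0 := fun i hi =>
    (ZMod.intCast_zmod_eq_zero_iff_dvd _ _).2 (hT.cls i hi)
  refine ⟨?_, ?_, ?_, ?_, ?_, ?_, ?_, ?_, ?_⟩
  · have h := congrArg (Int.cast : ℤ → ZMod p) (deg1 hq)
    push_cast at h ⊢
    exact h
  · have h := congrArg (Int.cast : ℤ → ZMod p) (deg2 hq)
    push_cast at h ⊢
    exact h
  · have h := congrArg (Int.cast : ℤ → ZMod p) (deg3 hq)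
    push_cast at h ⊢
    exact h
  · have h := congrArg (Int.cast : ℤ → ZMod p) (deg4 hq)
    push_cast at h ⊢
    exact h
  · intro h1
    have h := hc 1 h1
    rw [evD1] at h
    push_cast at h
    exact h
  · intro h1
    have h := hc 2 h1
    rw [evD2] at h
    push_cast at h
    exact h
  · intro h1
    have h := hc 3 h1
    rw [evD3] at h
    push_cast at h
    exact h
  · intro h1
    have h := hc 4 h1
    rw [evD4] at h
    push_cast at h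
    exact h
  · intro h1
    have hN : (p : ℤ) ^ 1 ∣ evZ (q : ℤ) pol.N := by
      rw [pow_one, ← ZMod.intCast_zmod_eq_zero_iff_dvd, evN]
      push_cast
      exact h1
    have h2 := hT.tr 1 hN
    rw [pow_one, ← ZMod.intCast_zmod_eq_zero_iff_dvd, sum_eq h0, deg0 hq] at h2
    push_cast [apply_ite (Int.cast : ℤ → ZMod p)] at h2 ⊢
    exact h2

end vals

section pat

variable {q p : ℕ} [hF : Fact p.Prime] {S : Finset (Fin 5)} {e : ℕ} {d1 d2 d3 d4 : ZMod p}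

theorem pw_ne (he : ord q p = e) {k : ℕ} (hk : ¬ e ∣ k) : (q : ZMod p) ^ k ≠ 1 := by
  intro h
  apply hk
  rw [← he]
  exact orderOf_dvd_of_pow_eq_one h

theorem pw_eq (he : ord q p = e) : (q : ZMod p) ^ e = 1 := by
  rw [← he]
  exact pow_orderOf_eq_one _

theorem f0 (he : ord q p = e) (h0 : e ≠ 0) : (q : ZMod p) ≠ 0 := by
  intro h
  have h1 := pw_eq he
  rw [h, zero_pow h0] at h1
  exact zero_ne_one h1

theorem f1 (he : ord q p = e) (h : ¬ e ∣ 1) : (q : ZMod p) - 1 ≠ 0 := fun h1 => pw_ne he h (by linear_combination h1)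

theorem f2 (he : ord q p = e) (h : ¬ e ∣ 2) : (q : ZMod p) + 1 ≠ 0 := fun h1 =>
  pw_ne he h (by linear_combination ((q : ZMod p) - 1) * h1)

theorem f3 (he : ord q p = e) (h : ¬ e ∣ 3) : (q : ZMod p) ^ 2 + (q : ZMod p) + 1 ≠ 0 := fun h1 =>
  pw_ne he h (by linear_combination ((q : ZMod p) - 1) * h1)

theorem f4 (he : ord q p = e) (h : ¬ e ∣ 4) : (q : ZMod p) ^ 2 + 1 ≠ 0 := fun h1 =>
  pw_ne he h (by linear_combination ((q : ZMod p) ^ 2 - 1) * h1)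

theorem f6 (he : ord q p = e) (h : ¬ e ∣ 6) : (q : ZMod p) ^ 2 - (q : ZMod p) + 1 ≠ 0 := fun h1 =>
  pw_ne he h (by linear_combination ((q : ZMod p) + 1) * ((q : ZMod p) ^ 3 - 1) * h1)

theorem f8 (he : ord q p = e) (h : ¬ e ∣ 8) : (q : ZMod p) ^ 4 + 1 ≠ 0 := fun h1 =>
  pw_ne he h (by linear_combination ((q : ZMod p) ^ 4 - 1) * h1)

theorem f12 (he : ord q p = e) (h : ¬ e ∣ 12) : (q : ZMod p) ^ 4 - (q : ZMod p) ^ 2 + 1 ≠ 0 := fun h1 =>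
  pw_ne he h (by linear_combination ((q : ZMod p) ^ 6 - 1) * ((q : ZMod p) ^ 2 + 1) * h1)

theorem dvd_sub_one (he : ord q p = e) (h0 : e ≠ 0) : e ∣ p - 1 := by
  rw [← he]
  exact orderOf_dvd_of_pow_eq_one (ZMod.pow_card_sub_one_eq_one (f0 he h0))

theorem ge_of (he : ord q p = e) (h0 : 3 ≤ e) : 5 ≤ p := by
  have h1 := dvd_sub_one he (by omega)
  have h2 := hF.out.two_le
  have h3 := Nat.le_of_dvd (by omega) h1
  have h4 : p ≠ 4 := by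
    rintro rfl
    exact absurd hF.out (by norm_num)
  omega

theorem nat_ne {n : ℕ} (h : ¬ p ∣ n) : ((n : ℕ) : ZMod p) ≠ 0 := fun h1 => h ((ZMod.natCast_eq_zero_iff n p).1 h1)

theorem lt_ne {n : ℕ} (h0 : n ≠ 0) (h : n < p) : ((n : ℕ) : ZMod p) ≠ 0 :=
  nat_ne fun h1 => absurd (Nat.le_of_dvd (Nat.pos_of_ne_zero h0) h1) (by omega)

theorem root2 (he : ord q p = 2) : (q : ZMod p) + 1 = 0 := by
  have h : ((q : ZMod p) - 1) * ((q : ZMod p) + 1) = 0 := by linear_combination pw_eq he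
  exact (mul_eq_zero.1 h).resolve_left (f1 he (by decide))

theorem root3 (he : ord q p = 3) : (q : ZMod p) ^ 2 + (q : ZMod p) + 1 = 0 := by
  have h : ((q : ZMod p) - 1) * ((q : ZMod p) ^ 2 + (q : ZMod p) + 1) = 0 := by linear_combination pw_eq he
  exact (mul_eq_zero.1 h).resolve_left (f1 he (by decide))

theorem root4 (he : ord q p = 4) : (q : ZMod p) ^ 2 + 1 = 0 := by
  have h : (((q : ZMod p) - 1) * ((q : ZMod p) + 1)) * ((q : ZMod p) ^ 2 + 1) = 0 := by linear_combination pw_eq he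
  exact (mul_eq_zero.1 h).resolve_left (mul_ne_zero (f1 he (by decide)) (f2 he (by decide)))

theorem root6 (he : ord q p = 6) : (q : ZMod p) ^ 2 - (q : ZMod p) + 1 = 0 := by
  have h : ((((q : ZMod p) - 1) * ((q : ZMod p) ^ 2 + (q : ZMod p) + 1)) * ((q : ZMod p) + 1)) *
      ((q : ZMod p) ^ 2 - (q : ZMod p) + 1) = 0 := by linear_combination pw_eq he
  exact (mul_eq_zero.1 h).resolve_left
    (mul_ne_zero (mul_ne_zero (f1 he (by decide)) (f3 he (by decide))) (f2 he (by decide)))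

theorem root8 (he : ord q p = 8) : (q : ZMod p) ^ 4 + 1 = 0 := by
  have h : (((q : ZMod p) - 1) * ((q : ZMod p) + 1) * ((q : ZMod p) ^ 2 + 1)) * ((q : ZMod p) ^ 4 + 1) = 0 := by
    linear_combination pw_eq he
  exact (mul_eq_zero.1 h).resolve_left
    (mul_ne_zero (mul_ne_zero (f1 he (by decide)) (f2 he (by decide))) (f4 he (by decide)))

theorem root12 (he : ord q p = 12) : (q : ZMod p) ^ 4 - (q : ZMod p) ^ 2 + 1 = 0 := by
  have h : (((q : ZMod p) - 1) * ((q : ZMod p) ^ 2 + (q : ZMod p) + 1) * ((q : ZMod p) + 1) *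
      ((q : ZMod p) ^ 2 - (q : ZMod p) + 1) * ((q : ZMod p) ^ 2 + 1)) *
      ((q : ZMod p) ^ 4 - (q : ZMod p) ^ 2 + 1) = 0 := by linear_combination pw_eq he
  exact (mul_eq_zero.1 h).resolve_left
    (mul_ne_zero (mul_ne_zero (mul_ne_zero (mul_ne_zero (f1 he (by decide)) (f3 he (by decide))) (f2 he (by decide)))
      (f6 he (by decide))) (f4 he (by decide)))

theorem half {a b : ZMod p} (hp2 : p ≠ 2) (h : 2 * a = 2 * b) : a = b := by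
  have h2 : (2 : ZMod p) ≠ 0 := by
    have := nat_ne (p := p) (n := 2) (fun h => hp2 ((Nat.prime_dvd_prime_iff_eq hF.out Nat.prime_two).1 h))
    exact_mod_cast this
  exact mul_left_cancel₀ h2 h

theorem pat2 (hp2 : p ≠ 2) (hp3 : p ≠ 3) (he : ord q p = 2) (hV : V q p S d1 d2 d3 d4) :
    2 ∉ S ∧ ((1 ∈ S ∧ 3 ∈ S ∧ 4 ∈ S) ∨ (p = 5 ∧ 1 ∉ S ∧ 3 ∈ S ∧ 4 ∉ S) ∨ (p = 7 ∧ 1 ∉ S ∧ 3 ∉ S ∧ 4 ∈ S)) := by
  have hz : (q : ZMod p) = -1 := by linear_combination root2 he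
  have hdvd : ∀ n : ℕ, ((n : ℕ) : ZMod p) = 0 → p ∣ n := fun n h => (ZMod.natCast_eq_zero_iff n p).1 h
  have h5 : 5 ≤ p := by
    have h2 := hF.out.two_le
    have h4 : p ≠ 4 := by
      rintro rfl
      exact absurd hF.out (by norm_num)
    omega
  have e1 : d1 = -2 := half hp2 (by rw [hV.v1, hz]; ring)
  have e3 : d3 = 9 := by rw [hV.v3, hz]; ring
  have e4 : d4 = -8 := by rw [hV.v4, hz]; ring
  have h2S : 2 ∉ S := by
    intro h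
    have h1 := hV.c2 h
    rw [hz] at h1
    have h3 : ((4 : ℕ) : ZMod p) = 0 := by push_cast; linear_combination h1
    exact lt_ne (by norm_num) (by omega) h3
  have hs := hV.s (by rw [hz]; ring)
  rw [if_neg h2S, e1, e3, e4] at hs
  refine ⟨h2S, ?_⟩
  have ha : ∀ n : ℕ, n ∈ [1, 2, 8, 9] → ((n : ℕ) : ZMod p) ≠ 0 := by
    intro n hn h
    have h1 := hdvd n h
    simp only [List.mem_cons, List.not_mem_nil, or_false] at hn
    have hlt := Nat.le_of_dvd (by omega) h1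
    have hp := hF.out
    rcases hn with rfl | rfl | rfl | rfl
    · omega
    · omega
    · have h6 : p ∣ 2 ^ 3 := h1
      have := (Nat.prime_dvd_prime_iff_eq hp Nat.prime_two).1 (hp.dvd_of_dvd_pow h6)
      omega
    · have h6 : p ∣ 3 ^ 2 := h1
      have := (Nat.prime_dvd_prime_iff_eq hp Nat.prime_three).1 (hp.dvd_of_dvd_pow h6)
      omega
  by_cases b1 : 1 ∈ S <;> by_cases b3 : 3 ∈ S <;> by_cases b4 : 4 ∈ S <;>
    simp only [b1, b3, b4, if_true, if_false] at hs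
  · exact Or.inl ⟨b1, b3, b4⟩
  · exfalso
    apply ha 8 (by decide)
    push_cast; linear_combination hs
  · exfalso
    apply ha 9 (by decide)
    push_cast; linear_combination -hs
  · exfalso
    apply ha 1 (by decide)
    push_cast; linear_combination -hs
  · exfalso
    apply ha 2 (by decide)
    push_cast; linear_combination hs
  · refine Or.inr (Or.inl ⟨?_, b1, b3, b4⟩)
    have h6 : p ∣ 2 * 5 := hdvd 10 (by push_cast; linear_combination hs)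
    rcases (Nat.Prime.dvd_mul hF.out).1 h6 with h | h
    · exact absurd (Nat.le_of_dvd (by norm_num) h) (by omega)
    · exact (Nat.prime_dvd_prime_iff_eq hF.out (by norm_num)).1 h
  · refine Or.inr (Or.inr ⟨?_, b1, b3, b4⟩)
    have h6 : p ∣ 7 := hdvd 7 (by push_cast; linear_combination -hs)
    exact (Nat.prime_dvd_prime_iff_eq hF.out (by norm_num)).1 h6
  · exfalso
    apply ha 1 (by decide)
    push_cast; linear_combination hs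

theorem pat3 (he : ord q p = 3) (hV : V q p S d1 d2 d3 d4) : 3 ∉ S ∧ 1 ∈ S ∧ (2 ∈ S ↔ 4 ∈ S) := by
  have h5 := ge_of he le_rfl
  have hp2 : p ≠ 2 := by omega
  have hr := root3 he
  have hz2 : (q : ZMod p) ^ 2 = -(q : ZMod p) - 1 := by linear_combination hr
  have hz3 : (q : ZMod p) ^ 3 = 1 := pw_eq he
  have hz4 : (q : ZMod p) ^ 4 = (q : ZMod p) := by linear_combination (q : ZMod p) * hz3
  have e1 : d1 = -1 := half hp2 (by
    rw [hV.v1]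
    linear_combination (2 - (q : ZMod p) - (q : ZMod p) ^ 2 + 2 * (q : ZMod p) ^ 3 - (q : ZMod p) ^ 4 +
      (q : ZMod p) ^ 6 - (q : ZMod p) ^ 8 + (q : ZMod p) ^ 9) * hr)
  have e2 : d2 = -2 := half hp2 (by
    rw [hV.v2]
    linear_combination (4 - 3 * (q : ZMod p) - (q : ZMod p) ^ 2 + 4 * (q : ZMod p) ^ 3 - (q : ZMod p) ^ 4 -
      2 * (q : ZMod p) ^ 5 + 3 * (q : ZMod p) ^ 6 - (q : ZMod p) ^ 8 + (q : ZMod p) ^ 9) * hr)
  have e4 : d4 = 2 := by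
    rw [hV.v4]
    linear_combination (-2 + 2 * (q : ZMod p) - (q : ZMod p) ^ 3 + (q : ZMod p) ^ 4 + (q : ZMod p) ^ 5 -
      2 * (q : ZMod p) ^ 6 + 2 * (q : ZMod p) ^ 7 + (q : ZMod p) ^ 11 - (q : ZMod p) ^ 12 + (q : ZMod p) ^ 13) * hr
  have h3S : 3 ∉ S := fun h =>
    (mul_ne_zero (f1 he (by decide)) (mul_ne_zero (mul_ne_zero (mul_ne_zero (pow_ne_zero 8 (f0 he (by norm_num)))
      (f2 he (by decide))) (f4 he (by decide))) (f8 he (by decide)))) (hV.c3 h)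
  have hs := hV.s (by rw [hr]; ring)
  rw [if_neg h3S, e1, e2, e4] at hs
  have k1 : ((1 : ℕ) : ZMod p) ≠ 0 := lt_ne (by norm_num) (by omega)
  have k2 : ((2 : ℕ) : ZMod p) ≠ 0 := lt_ne (by norm_num) (by omega)
  have k3 : ((3 : ℕ) : ZMod p) ≠ 0 := lt_ne (by norm_num) (by omega)
  push_cast at k1 k2 k3
  refine ⟨h3S, ?_⟩
  by_cases b1 : 1 ∈ S <;> by_cases b2 : 2 ∈ S <;> by_cases b4 : 4 ∈ S <;>
    simp only [b1, b2, b4, if_true, if_false] at hs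
  · exact ⟨b1, by simp [b2, b4]⟩
  · exact absurd (by linear_combination -hs) k2
  · exact absurd (by linear_combination hs) k2
  · exact ⟨b1, by simp [b2, b4]⟩
  · exact absurd (by linear_combination hs) k1
  · exact absurd (by linear_combination -hs) k1
  · exact absurd (by linear_combination hs) k3
  · exact absurd (by linear_combination hs) k1

theorem pat4 (he : ord q p = 4) (hV : V q p S d1 d2 d3 d4) : 1 ∉ S ∧ 4 ∉ S ∧ 2 ∈ S ∧ 3 ∈ S := by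
  have h5 := ge_of he (by norm_num)
  have hp2 : p ≠ 2 := by omega
  have hr := root4 he
  have hz2 : (q : ZMod p) ^ 2 = -1 := by linear_combination hr
  have hz4 : (q : ZMod p) ^ 4 = 1 := pw_eq he
  have k1 : ((1 : ℕ) : ZMod p) ≠ 0 := lt_ne (by norm_num) (by omega)
  have k2 : ((2 : ℕ) : ZMod p) ≠ 0 := lt_ne (by norm_num) (by omega)
  have k3 : ((3 : ℕ) : ZMod p) ≠ 0 := lt_ne (by norm_num) (by omega)
  push_cast at k1 k2 k3
  have e2 : d2 = 2 := half hp2 (by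
    rw [hV.v2]
    linear_combination (-4 + (q : ZMod p) + 4 * (q : ZMod p) ^ 2 - (q : ZMod p) ^ 3 - 2 * (q : ZMod p) ^ 4 +
      2 * (q : ZMod p) ^ 5 + 2 * (q : ZMod p) ^ 6 - (q : ZMod p) ^ 7 + (q : ZMod p) ^ 9) * hr)
  have e3 : d3 = -3 := by
    rw [hV.v3]
    linear_combination (3 - 2 * (q : ZMod p) ^ 2 + 3 * (q : ZMod p) ^ 4 - (q : ZMod p) ^ 6 + 2 * (q : ZMod p) ^ 8 +
      (q : ZMod p) ^ 12) * hr
  have h1S : 1 ∉ S := fun h =>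
    (mul_ne_zero (f1 he (by decide)) (mul_ne_zero (mul_ne_zero (mul_ne_zero (pow_ne_zero 7 (f0 he (by norm_num)))
      (pow_ne_zero 2 (f2 he (by decide)))) (f3 he (by decide))) (pow_ne_zero 2 (f6 he (by decide))))) (hV.c1 h)
  have h48 : (q : ZMod p) ^ 4 + 1 ≠ 0 := fun h => k2 (by rw [hz4] at h; linear_combination h)
  have h4S : 4 ∉ S := fun h =>
    (mul_ne_zero (f1 he (by decide)) (mul_ne_zero (mul_ne_zero (mul_ne_zero (mul_ne_zero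
      (pow_ne_zero 6 (f0 he (by norm_num))) (f2 he (by decide))) (f3 he (by decide))) (f6 he (by decide))) h48))
      (hV.c4 h)
  have hs := hV.s (by rw [hr]; ring)
  rw [if_neg h1S, if_neg h4S, e2, e3] at hs
  refine ⟨h1S, h4S, ?_⟩
  by_cases b2 : 2 ∈ S <;> by_cases b3 : 3 ∈ S <;> simp only [b2, b3, if_true, if_false] at hs
  · exact ⟨b2, b3⟩
  · exact absurd (by linear_combination hs) k3
  · exact absurd (by linear_combination -hs) k2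
  · exact absurd (by linear_combination hs) k1

theorem pat6 (he : ord q p = 6) (hV : V q p S d1 d2 d3 d4) : 2 ∉ S ∧ 3 ∉ S ∧ 1 ∈ S ∧ 4 ∈ S := by
  have h5 := ge_of he (by norm_num)
  have hp2 : p ≠ 2 := by omega
  have hr := root6 he
  have hz2 : (q : ZMod p) ^ 2 = (q : ZMod p) - 1 := by linear_combination hr
  have hz3 : (q : ZMod p) ^ 3 = -1 := by linear_combination ((q : ZMod p) + 1) * hr
  have hz4 : (q : ZMod p) ^ 4 = -(q : ZMod p) := by linear_combination (q : ZMod p) * hz3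
  have k1 : ((1 : ℕ) : ZMod p) ≠ 0 := lt_ne (by norm_num) (by omega)
  have k2 : ((2 : ℕ) : ZMod p) ≠ 0 := lt_ne (by norm_num) (by omega)
  push_cast at k1 k2
  have e1 : d1 = 1 := half hp2 (by
    rw [hV.v1]
    linear_combination (-2 - (q : ZMod p) + (q : ZMod p) ^ 2 + 2 * (q : ZMod p) ^ 3 + (q : ZMod p) ^ 4 -
      (q : ZMod p) ^ 6 + (q : ZMod p) ^ 8 + (q : ZMod p) ^ 9) * hr)
  have e4 : d4 = -2 := by
    rw [hV.v4]
    linear_combination (2 + 2 * (q : ZMod p) - (q : ZMod p) ^ 3 - (q : ZMod p) ^ 4 + (q : ZMod p) ^ 5 +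
      2 * (q : ZMod p) ^ 6 + 2 * (q : ZMod p) ^ 7 + (q : ZMod p) ^ 11 + (q : ZMod p) ^ 12 + (q : ZMod p) ^ 13) * hr
  have h2S : 2 ∉ S := by
    intro h
    have h12 : (q : ZMod p) ^ 4 - (q : ZMod p) ^ 2 + 1 ≠ 0 := by
      intro h12
      rw [hz4, hz2] at h12
      have h13 : (2 : ZMod p) * ((q : ZMod p) - 1) = 0 := by linear_combination -h12
      exact (mul_ne_zero k2 (f1 he (by decide))) h13
    exact (mul_ne_zero (f1 he (by decide)) (mul_ne_zero (mul_ne_zero (mul_ne_zero (pow_ne_zero 7 (f0 he (by norm_num)))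
      (f3 he (by decide))) (f4 he (by decide))) h12)) (hV.c2 h)
  have h3S : 3 ∉ S := fun h =>
    (mul_ne_zero (f1 he (by decide)) (mul_ne_zero (mul_ne_zero (mul_ne_zero (pow_ne_zero 8 (f0 he (by norm_num)))
      (f2 he (by decide))) (f4 he (by decide))) (f8 he (by decide)))) (hV.c3 h)
  have hs := hV.s (by rw [hr]; ring)
  rw [if_neg h2S, if_neg h3S, e1, e4] at hs
  refine ⟨h2S, h3S, ?_⟩
  by_cases b1 : 1 ∈ S <;> by_cases b4 : 4 ∈ S <;> simp only [b1, b4, if_true, if_false] at hs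
  · exact ⟨b1, b4⟩
  · exact absurd (by linear_combination hs) k2
  · exact absurd (by linear_combination -hs) k1
  · exact absurd (by linear_combination hs) k1

theorem pat8 (he : ord q p = 8) (hV : V q p S d1 d2 d3 d4) : 1 ∉ S ∧ 2 ∉ S ∧ 3 ∈ S := by
  have h5 := ge_of he (by norm_num)
  have hp2 : p ≠ 2 := by omega
  have hr := root8 he
  have hz4 : (q : ZMod p) ^ 4 = -1 := by linear_combination hr
  have k1 : ((1 : ℕ) : ZMod p) ≠ 0 := lt_ne (by norm_num) (by omega)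
  push_cast at k1
  have e3 : d3 = -1 := by
    rw [hV.v3]
    linear_combination (1 + (q : ZMod p) ^ 2 + (q : ZMod p) ^ 6 + (q : ZMod p) ^ 8 + (q : ZMod p) ^ 10) * hr
  have e4 : d4 = 0 := by
    rw [hV.v4]
    linear_combination (q : ZMod p) ^ 3 * ((q : ZMod p) ^ 2 + 1) ^ 2 * ((q : ZMod p) ^ 4 - (q : ZMod p) ^ 2 + 1) * hr
  have h1S : 1 ∉ S := fun h =>
    (mul_ne_zero (f1 he (by decide)) (mul_ne_zero (mul_ne_zero (mul_ne_zero (pow_ne_zero 7 (f0 he (by norm_num)))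
      (pow_ne_zero 2 (f2 he (by decide)))) (f3 he (by decide))) (pow_ne_zero 2 (f6 he (by decide))))) (hV.c1 h)
  have h2S : 2 ∉ S := fun h =>
    (mul_ne_zero (f1 he (by decide)) (mul_ne_zero (mul_ne_zero (mul_ne_zero (pow_ne_zero 7 (f0 he (by norm_num)))
      (f3 he (by decide))) (f4 he (by decide))) (f12 he (by decide)))) (hV.c2 h)
  have hs := hV.s (by rw [hr]; ring)
  rw [if_neg h1S, if_neg h2S, e3, e4] at hs
  refine ⟨h1S, h2S, ?_⟩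
  by_contra b3
  simp only [b3, if_false, ite_self, add_zero] at hs
  exact k1 hs

theorem pat12 (he : ord q p = 12) (hV : V q p S d1 d2 d3 d4) : 1 ∉ S ∧ 3 ∉ S ∧ 4 ∉ S ∧ 2 ∈ S := by
  have h5 := ge_of he (by norm_num)
  have hr := root12 he
  have k1 : ((1 : ℕ) : ZMod p) ≠ 0 := lt_ne (by norm_num) (by omega)
  push_cast at k1
  have h1S : 1 ∉ S := fun h =>
    (mul_ne_zero (f1 he (by decide)) (mul_ne_zero (mul_ne_zero (mul_ne_zero (pow_ne_zero 7 (f0 he (by norm_num)))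
      (pow_ne_zero 2 (f2 he (by decide)))) (f3 he (by decide))) (pow_ne_zero 2 (f6 he (by decide))))) (hV.c1 h)
  have h3S : 3 ∉ S := fun h =>
    (mul_ne_zero (f1 he (by decide)) (mul_ne_zero (mul_ne_zero (mul_ne_zero (pow_ne_zero 8 (f0 he (by norm_num)))
      (f2 he (by decide))) (f4 he (by decide))) (f8 he (by decide)))) (hV.c3 h)
  have h4S : 4 ∉ S := fun h =>
    (mul_ne_zero (f1 he (by decide)) (mul_ne_zero (mul_ne_zero (mul_ne_zero (mul_ne_zero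
      (pow_ne_zero 6 (f0 he (by norm_num))) (f2 he (by decide))) (f3 he (by decide))) (f6 he (by decide)))
        (f8 he (by decide)))) (hV.c4 h)
  have hs := hV.s (by rw [hr]; ring)
  rw [if_neg h1S, if_neg h3S, if_neg h4S] at hs
  refine ⟨h1S, h3S, h4S, ?_⟩
  by_contra b2
  simp only [b2, if_false, add_zero] at hs
  exact k1 hs

end pat

section small

variable {q : ℕ} {S : Finset (Fin 5)}

theorem nine_val : ∀ z : ZMod 9, z = 2 ∨ z = 5 ∨ z = 8 →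
    5 * (z * (z ^ 2 + 1) * (z ^ 4 + 1) * (z ^ 4 - z ^ 2 + 1)) = 7 ∧
    z ^ 2 * (z ^ 2 + z + 1) ^ 2 * (z ^ 2 - z + 1) ^ 2 * (z ^ 4 - z ^ 2 + 1) = 0 ∧
    z ^ 3 * (z ^ 2 + 1) ^ 2 * (z ^ 4 + 1) * (z ^ 4 - z ^ 2 + 1) = 1 := by
  decide +kernel

/-- the prime `3`, `e = 2` -/
theorem patThree (hq : 2 ≤ q) (he : ord q 3 = 2) (h0 : (0 : Fin 5) ∈ S) (hT : Tst pol q 3 S) :
    2 ∉ S ∧ 1 ∈ S ∧ 4 ∈ S := by
  have hF : Fact (Nat.Prime 3) := ⟨Nat.prime_three⟩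
  have hV := exists_V hq h0 hT
  have hz : (q : ZMod 3) = -1 := by linear_combination root2 he
  have h2S : 2 ∉ S := by
    intro h
    have h1 := hV.c2 h
    rw [hz] at h1
    have h3 : ((4 : ℕ) : ZMod 3) = 0 := by push_cast; linear_combination h1
    have h4 := (ZMod.natCast_eq_zero_iff _ _).1 h3
    omega
  have hmod : q % 3 = 2 := by
    have h1 : ((q + 1 : ℕ) : ZMod 3) = 0 := by push_cast; rw [hz]; ring
    have h2 := (ZMod.natCast_eq_zero_iff _ _).1 h1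
    omega
  have hz9 : (q : ZMod 9) = 2 ∨ (q : ZMod 9) = 5 ∨ (q : ZMod 9) = 8 := by
    have h1 : ((q % 9 : ℕ) : ZMod 9) = (q : ZMod 9) := ZMod.natCast_mod q 9
    have h2 : q % 9 = 2 ∨ q % 9 = 5 ∨ q % 9 = 8 := by omega
    rcases h2 with h2 | h2 | h2 <;> rw [← h1, h2]
    · left; rfl
    · right; left; rfl
    · right; right; rfl
  obtain ⟨k, hk⟩ : ∃ k : ℤ, (q : ℤ) = 3 * k + 2 := ⟨(q : ℤ) / 3, by omega⟩
  have hN : ((3 : ℕ) : ℤ) ^ 2 ∣ evZ (q : ℤ) pol.N := by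
    rw [evN]
    have h1 : (q : ℤ) + 1 = 3 * (k + 1) := by rw [hk]; ring
    have h2 : (q : ℤ) ^ 2 - q + 1 = 3 * (3 * k ^ 2 + 3 * k + 1) := by rw [hk]; ring
    rw [h1, h2]
    exact ⟨(k + 1) * ((q : ℤ) ^ 2 + q + 1) * ((q : ℤ) ^ 2 + 1) * (3 * k ^ 2 + 3 * k + 1) * ((q : ℤ) ^ 4 + 1) *
      ((q : ℤ) ^ 4 - (q : ℤ) ^ 2 + 1), by push_cast; ring⟩
  have hs := hT.tr 2 hN
  have h9 : (((3 : ℕ) : ℤ) ^ 2) = ((9 : ℕ) : ℤ) := by norm_num
  rw [h9, ← ZMod.intCast_zmod_eq_zero_iff_dvd, sum_eq h0, deg0 hq, if_neg h2S] at hs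
  obtain ⟨v1, v3, v4⟩ := nine_val _ hz9
  have e1 : ((pol.deg q 1 : ℤ) : ZMod 9) = 7 := by
    rw [← v1]
    have h := congrArg (Int.cast : ℤ → ZMod 9) (deg1 hq)
    push_cast at h ⊢
    rw [← h]
    have h10 : (10 : ZMod 9) = 1 := rfl
    linear_combination -(pol.deg q 1 : ZMod 9) * h10
  have e3 : ((pol.deg q 3 : ℤ) : ZMod 9) = 0 := by
    rw [← v3]
    have h := congrArg (Int.cast : ℤ → ZMod 9) (deg3 hq)
    push_cast at h ⊢
    exact h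
  have e4 : ((pol.deg q 4 : ℤ) : ZMod 9) = 1 := by
    rw [← v4]
    have h := congrArg (Int.cast : ℤ → ZMod 9) (deg4 hq)
    push_cast at h ⊢
    exact h
  push_cast [apply_ite (Int.cast : ℤ → ZMod 9)] at hs e1 e3 e4
  rw [e1, e3, e4] at hs
  refine ⟨h2S, ?_⟩
  by_cases b1 : 1 ∈ S <;> by_cases b4 : 4 ∈ S <;> simp only [b1, b4, if_true, if_false, ite_self] at hs
  · exact ⟨b1, b4⟩
  · exact absurd hs (by decide)
  · exact absurd hs (by decide)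
  · exact absurd hs (by decide)

/-- the prime `5`, `e = 2`: the coset test -/
theorem five (hq : 2 ≤ q) (he : ord q 5 = 2) (h0 : (0 : Fin 5) ∈ S) (hT : Tst pol q 5 S) (b1 : 1 ∉ S) (b2 : 2 ∉ S)
    (b3 : 3 ∈ S) (b4 : 4 ∉ S) : False := by
  have hF : Fact (Nat.Prime 5) := ⟨Nat.prime_five⟩
  obtain ⟨u, v, hv, huv⟩ := hT.co 1
  have hS : S = {0, 3} := by
    ext i
    fin_cases i
    · simp [h0]
    · simpa using b1
    · simpa using b2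
    · simpa using b3
    · simpa using b4
  have hx : (2 : ℚ) ≤ (q : ℚ) := by exact_mod_cast hq
  have hsum : ∑ i ∈ S, (pol.deg q i : ℚ) * pol.sph q i 1 =
      (pol.deg q 0 : ℚ) * pol.sph q 0 1 + (pol.deg q 3 : ℚ) * pol.sph q 3 1 := by
    rw [hS, Finset.sum_insert (by decide), Finset.sum_singleton]
  have hs0 : pol.sph q 0 1 = 1 := by
    show ev (q : ℚ) [1] / ev (q : ℚ) [1] = 1
    simp
  have hd0 : (pol.deg q 0 : ℚ) = 1 := by exact_mod_cast deg0 hq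
  have hd3 : (pol.deg q 3 : ℚ) = (q : ℚ) ^ 2 * ((q : ℚ) ^ 2 + (q : ℚ) + 1) ^ 2 *
      ((q : ℚ) ^ 2 - (q : ℚ) + 1) ^ 2 * ((q : ℚ) ^ 4 - (q : ℚ) ^ 2 + 1) := by
    have h := congrArg (Int.cast : ℤ → ℚ) (deg3 hq)
    push_cast at h
    exact h
  set x : ℚ := (q : ℚ) with hxd
  have hA : ev x (pol.nu 3 1) = x ^ 7 * (x - 1) * (x ^ 2 + x + 1) := by
    show ev x [0, 0, 0, 0, 0, 0, 0, -1, 0, 0, 1] = _
    simp only [ev_cons, ev_nil]
    push_cast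
    ring
  have hB : ev x (pol.nu 3 pol.o) = x ^ 8 * (x + 1) * (x ^ 2 + x + 1) * (x ^ 2 - x + 1) := by
    show ev x [0, 0, 0, 0, 0, 0, 0, 0, 1, 1, 1, 1, 1, 1] = _
    simp only [ev_cons, ev_nil]
    push_cast
    ring
  have hB0 : x ^ 8 * (x + 1) * (x ^ 2 + x + 1) * (x ^ 2 - x + 1) ≠ 0 := by
    have h1 : 0 < x := by linarith
    have h2 : 0 < x ^ 2 - x + 1 := by nlinarith
    positivity
  have hs3 : (pol.deg q 3 : ℚ) * pol.sph q 3 1 * (x + 1) =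
      x * (x - 1) * (x ^ 2 + x + 1) ^ 2 * (x ^ 2 - x + 1) * (x ^ 4 - x ^ 2 + 1) := by
    have h1 : pol.sph q 3 1 = ev x (pol.nu 3 1) / ev x (pol.nu 3 pol.o) := rfl
    rw [h1, hd3, hA, hB, mul_div_assoc', div_mul_eq_mul_div, div_eq_iff hB0]
    ring
  have hN : ev x pol.N = (x + 1) * (x ^ 2 + x + 1) * (x ^ 2 + 1) * (x ^ 2 - x + 1) * (x ^ 4 + 1) *
      (x ^ 4 - x ^ 2 + 1) := by
    have h := congrArg (Int.cast : ℤ → ℚ) (evN (q : ℤ))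
    rw [evZ_cast] at h
    push_cast at h
    exact h
  rw [hsum, hs0, hd0, one_mul, hN] at huv
  have key : (v : ℚ) * ((x + 1) + x * (x - 1) * (x ^ 2 + x + 1) ^ 2 * (x ^ 2 - x + 1) * (x ^ 4 - x ^ 2 + 1)) =
      u * ((x + 1) * (x ^ 2 + x + 1) * (x ^ 2 + 1) * (x ^ 2 - x + 1) * (x ^ 4 + 1) * (x ^ 4 - x ^ 2 + 1)) * (x + 1) := by
    rw [← hs3, ← huv]
    ring
  have keyZ : (v : ℤ) * (((q : ℤ) + 1) + (q : ℤ) * ((q : ℤ) - 1) * ((q : ℤ) ^ 2 + (q : ℤ) + 1) ^ 2 *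
      ((q : ℤ) ^ 2 - (q : ℤ) + 1) * ((q : ℤ) ^ 4 - (q : ℤ) ^ 2 + 1)) =
      u * (((q : ℤ) + 1) * ((q : ℤ) ^ 2 + (q : ℤ) + 1) * ((q : ℤ) ^ 2 + 1) * ((q : ℤ) ^ 2 - (q : ℤ) + 1) *
        ((q : ℤ) ^ 4 + 1) * ((q : ℤ) ^ 4 - (q : ℤ) ^ 2 + 1)) * ((q : ℤ) + 1) := by
    have h : ((v * (((q : ℤ) + 1) + (q : ℤ) * ((q : ℤ) - 1) * ((q : ℤ) ^ 2 + (q : ℤ) + 1) ^ 2 *
      ((q : ℤ) ^ 2 - (q : ℤ) + 1) * ((q : ℤ) ^ 4 - (q : ℤ) ^ 2 + 1)) : ℤ) : ℚ) =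
      ((u * (((q : ℤ) + 1) * ((q : ℤ) ^ 2 + (q : ℤ) + 1) * ((q : ℤ) ^ 2 + 1) * ((q : ℤ) ^ 2 - (q : ℤ) + 1) *
        ((q : ℤ) ^ 4 + 1) * ((q : ℤ) ^ 4 - (q : ℤ) ^ 2 + 1)) * ((q : ℤ) + 1) : ℤ) : ℚ) := by
      push_cast
      exact key
    exact_mod_cast h
  have h5 := congrArg (Int.cast : ℤ → ZMod 5) keyZ
  push_cast at h5
  have hz : (q : ZMod 5) = -1 := by linear_combination root2 he
  rw [hz] at h5
  apply hv
  rw [← ZMod.intCast_zmod_eq_zero_iff_dvd]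
  have h6 : (5 : ZMod 5) = 0 := rfl
  linear_combination h5 - (v : ZMod 5) * h6

end small

/-- the sets -/
def Pat (e p : ℕ) (S : Finset (Fin 5)) : Prop :=
  (e = 2 ∧ 2 ∉ S ∧ ((1 ∈ S ∧ 4 ∈ S ∧ (p = 3 ∨ 3 ∈ S)) ∨ (1 ∉ S ∧ 3 ∉ S ∧ 4 ∈ S))) ∨
  (e = 3 ∧ 3 ∉ S ∧ 1 ∈ S ∧ (2 ∈ S ↔ 4 ∈ S)) ∨
  (e = 4 ∧ 1 ∉ S ∧ 4 ∉ S ∧ 2 ∈ S ∧ 3 ∈ S) ∨
  (e = 6 ∧ 2 ∉ S ∧ 3 ∉ S ∧ 1 ∈ S ∧ 4 ∈ S) ∨
  (e = 8 ∧ 1 ∉ S ∧ 2 ∉ S ∧ 3 ∈ S) ∨
  (e = 12 ∧ 1 ∉ S ∧ 3 ∉ S ∧ 4 ∉ S ∧ 2 ∈ S)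

theorem pat_of {q p e : ℕ} {S : Finset (Fin 5)} (hq : 2 ≤ q) (hp : p.Prime) (hp2 : p ≠ 2) (he : ord q p = e)
    (hmem : e ∈ [2, 3, 4, 6, 8, 12]) (h0 : (0 : Fin 5) ∈ S) (hT : Tst pol q p S) : Pat e p S := by
  have hF : Fact p.Prime := ⟨hp⟩
  have hV := exists_V hq h0 hT
  simp only [List.mem_cons, List.not_mem_nil, or_false] at hmem
  rcases hmem with rfl | rfl | rfl | rfl | rfl | rfl
  · left
    by_cases h3 : p = 3
    · subst h3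
      obtain ⟨h1, h2, h4⟩ := patThree hq he h0 hT
      exact ⟨rfl, h1, Or.inl ⟨h2, h4, Or.inl rfl⟩⟩
    · obtain ⟨h1, h | h | h⟩ := pat2 hp2 h3 he hV
      · exact ⟨rfl, h1, Or.inl ⟨h.1, h.2.2, Or.inr h.2.1⟩⟩
      · obtain ⟨rfl, b1, b3, b4⟩ := h
        exact (five hq he h0 hT b1 h1 b3 b4).elim
      · exact ⟨rfl, h1, Or.inr h.2⟩
  · exact Or.inr (Or.inl ⟨rfl, pat3 he hV⟩)
  · exact Or.inr (Or.inr (Or.inl ⟨rfl, pat4 he hV⟩))
  · exact Or.inr (Or.inr (Or.inr (Or.inl ⟨rfl, pat6 he hV⟩)))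
  · exact Or.inr (Or.inr (Or.inr (Or.inr (Or.inl ⟨rfl, pat8 he hV⟩))))
  · exact Or.inr (Or.inr (Or.inr (Or.inr (Or.inr ⟨rfl, pat12 he hV⟩))))

theorem pat_clash {e f p l : ℕ} {S : Finset (Fin 5)} (h : Pat e p S) (h' : Pat f l S) (hef : e < f) :
    e = 2 ∧ f = 6 ∧ p = 3 := by
  unfold Pat at h h'
  by_cases b1 : (1 : Fin 5) ∈ S <;> by_cases b2 : (2 : Fin 5) ∈ S <;> by_cases b3 : (3 : Fin 5) ∈ S <;>
    by_cases b4 : (4 : Fin 5) ∈ S <;> simp only [b1, b2, b3, b4, not_true_eq_false, not_false_eq_true, and_true,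
      and_false, true_and, false_and, or_false, false_or, or_true, iff_true, iff_false, iff_self] at h h' <;> omega

variable (K : Type u) [Field K] [Fintype K]

/-- **`F₄(q)`, pairs of odd primes of different orders** -/
theorem diff_F4 : ∀ e ∈ [2, 3, 4, 6, 8, 12], ∀ f ∈ [2, 3, 4, 6, 8, 12], e < f →
    Kill ↥(chevF4.group K) (Fintype.card K) e f := by
  intro e he f hf hef p l hp hl hp2 hl2 hpl hpG hlG hep hfl hS
  obtain ⟨S, h0, hTp, hTl⟩ := FullF4d.sep hp hl hS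
  have hq : 2 ≤ Fintype.card K := Fintype.one_lt_card
  obtain ⟨h1, h2, h3⟩ := pat_clash (pat_of hq hp hp2 hep he h0 hTp) (pat_of hq hl hl2 hfl hf h0 hTl) hef
  subst h1 h2 h3
  exact H755.PQ.not_same_three_F4 K hl hep hfl hS

end Cfsg.Agent.H604.PQ
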